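import Cfsg.Agent.H52.RegPair.Linear
import Cfsg.Agent.H88.MaximalIndexSq

/-! A soluble permutation group has a colouring with five colours preserved only by the elements
acting trivially, provided completely reducible modules of smaller order have three vectors with
trivial common stabiliser. -/

set_option autoImplicit false
set_option linter.unusedSectionVars false
set_option linter.style.haveILetI false

namespace Cfsg.Agent.H67.Base3

open MulAction
open Cfsg.Agent.H52.RegPair (Inv CR Irr Indep Imprim subAction cr_sub exists_normal_elementary)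
open scoped Pointwise commutatorElement

universe u

/-- Only elements acting trivially fix the three vectors. -/
def RegTriple (G : Type u) [Group G] (V : Type u) [AddCommGroup V] [DistribMulAction G V]
    (a b c : V) : Prop :=
  ∀ g : G, g • a = a → g • b = b → g • c = c → ∀ x : V, g • x = x

/-- Modules of order less than the bound have regular triples. -/
def HasTriple (N : ℕ) : Prop :=
  ∀ (H : Type u) [Group H] [Finite H] (X : Type u) [AddCommGroup X] [Finite X] [DistribMulAction H X],
    Nat.card X < N → Group.IsSolvable H → CR H X → ∃ a b c : X, RegTriple H X a b c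

/-- A colouring preserved only by elements acting trivially. -/
def IsRigid (G : Type u) [Group G] (Ω : Type u) [MulAction G Ω] (c : Ω → Fin 5) : Prop :=
  ∀ g : G, (∀ x : Ω, c (g • x) = c x) → ∀ x : Ω, g • x = x

/-- A soluble subgroup of an insoluble group has index at least five. -/
theorem five_le_index {L : Type*} [Group L] [Finite L] (hL : ¬ Group.IsSolvable L) (M : Subgroup L)
    [Group.IsSolvable M] : 5 ≤ M.index := by
  by_contra hlt
  refine hL ?_
  let φ := MulAction.toPermHom L (L ⧸ M)
  haveI : Group.IsSolvable φ.ker := by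
    have hle : φ.ker ≤ M := by rw [← Subgroup.normalCore_eq_ker]; exact M.normalCore_le
    exact Group.isSolvable_of_isSolvable_injective (Subgroup.inclusion_injective hle)
  haveI : Group.IsSolvable (Equiv.Perm (L ⧸ M)) := by
    haveI := Fintype.ofFinite (L ⧸ M)
    haveI := H88.isSolvable_perm_of_card_four (α := Fin 4) (by simp)
    obtain ⟨e⟩ := Function.Embedding.nonempty_of_card_le (α := L ⧸ M) (β := Fin 4) (by
      rw [Fintype.card_fin, ← Nat.card_eq_fintype_card, ← Subgroup.index_eq_card]
      omega)
    exact Group.isSolvable_of_isSolvable_injective (Equiv.Perm.viaEmbeddingHom_injective e)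
  exact Group.isSolvable_of_ker_le_range φ.ker.subtype φ (by rw [Subgroup.range_subtype])

/-- Translates by representatives of five cosets. -/
theorem five_reps {L : Type*} [Group L] [Finite L] (hL : ¬ Group.IsSolvable L) (M : Subgroup L)
    [Group.IsSolvable M] : ∃ π : Fin 5 → L, ∀ i j, (π i)⁻¹ * π j ∈ M → i = j := by
  have h := five_le_index hL M
  haveI := Fintype.ofFinite (L ⧸ M)
  obtain ⟨e⟩ := Function.Embedding.nonempty_of_card_le (α := Fin 5) (β := L ⧸ M) (by
    rw [Fintype.card_fin, ← Nat.card_eq_fintype_card]; exact h)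
  refine ⟨fun i => (e i).out, fun i j hij => e.injective ?_⟩
  rw [← QuotientGroup.out_eq' (e i), ← QuotientGroup.out_eq' (e j)]
  exact QuotientGroup.eq.2 hij

variable {H : Type u} [Group H] [Finite H] {Y : Type u} [MulAction H Y] [Finite Y]

/-- Five inequivalent rigid colourings. -/
theorem five_colourings (hs : Group.IsSolvable H) [Nontrivial Y] (h : ∃ c, IsRigid H Y c) :
    ∃ F : Fin 5 → Y → Fin 5, (∀ i, IsRigid H Y (F i)) ∧
      ∀ i j, (∃ g : H, ∀ y, F i (g • y) = F j y) → i = j := by
  classical
  haveI := hs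
  haveI := Fintype.ofFinite Y
  by_cases h5 : Fintype.card Y ≤ 4
  · obtain ⟨e⟩ := Function.Embedding.nonempty_of_card_le (α := Y) (β := Fin 5) (by
      rw [Fintype.card_fin]; omega)
    refine ⟨fun i y => e y + i, fun i g hg y => e.injective (add_right_cancel (hg y)), ?_⟩
    rintro i j ⟨g, hg⟩
    have key : ∀ S : Finset (Fin 5), S.Nonempty → S ≠ Finset.univ → ∀ d : Fin 5,
        S.image (· + d) = S → d = 0 := by decide
    let S : Finset (Fin 5) := Finset.univ.image e
    have hd := key S (Finset.univ_nonempty.image e) (fun hS => by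
      have := congrArg Finset.card hS
      rw [Finset.card_image_of_injective _ e.injective, Finset.card_univ, Finset.card_univ,
        Fintype.card_fin] at this
      omega) (i - j) (by
      refine Finset.eq_of_subset_of_card_le (fun z hz => ?_)
        (by rw [Finset.card_image_of_injective _ (add_left_injective _)])
      obtain ⟨w, hw, rfl⟩ := Finset.mem_image.1 hz
      obtain ⟨y, -, rfl⟩ := Finset.mem_image.1 hw
      obtain ⟨y', rfl⟩ : ∃ y', g • y' = y := ⟨_, smul_inv_smul g y⟩
      refine Finset.mem_image.2 ⟨y', Finset.mem_univ _, ?_⟩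
      have h := hg y'
      simp only at h
      rw [← add_sub_assoc, h, add_sub_cancel_right])
    exact sub_eq_zero.1 hd
  obtain ⟨c₀, hc₀⟩ := h
  haveI : Nonempty {c : Y → Fin 5 // IsRigid H Y c} := ⟨⟨c₀, hc₀⟩⟩
  obtain ⟨⟨c, hc⟩, hmax⟩ := Finite.exists_max
    fun c : {c : Y → Fin 5 // IsRigid H Y c} => (Finset.univ.image c.1).card
  have hsurj : Function.Surjective c := by
    intro k
    by_contra hk
    push Not at hk
    obtain ⟨x, y, hxy, hcxy⟩ : ∃ x y, x ≠ y ∧ c x = c y := by
      by_contra hno
      push Not at hno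
      have := Fintype.card_le_of_injective c fun x y hxy => by
        by_contra hne; exact hno x y hne hxy
      rw [Fintype.card_fin] at this
      have hcard : Fintype.card Y = 5 := by omega
      obtain ⟨z, hz⟩ := ((Fintype.bijective_iff_injective_and_card c).2 ⟨fun x y hxy => by
        by_contra hne; exact hno x y hne hxy, by rw [hcard, Fintype.card_fin]⟩).2 k
      exact hk z hz
    let c' := Function.update c x k
    have hx : c' x = k := Function.update_self ..
    have hne : ∀ z, z ≠ x → c' z = c z := fun z hz => Function.update_of_ne hz ..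
    have hc' : IsRigid H Y c' := by
      intro g hg
      have hgx : g • x = x := by
        by_contra hgx
        have h1 := hg x
        rw [hne _ hgx, hx] at h1
        exact hk _ h1
      refine hc g fun z => ?_
      by_cases hz : z = x
      · rw [hz, hgx]
      · have h1 := hg z
        rwa [hne z hz, hne] at h1
        intro h2
        exact hz (MulAction.injective g (h2.trans hgx.symm))
    have hlt : (Finset.univ.image c).card < (Finset.univ.image c').card := by
      refine Finset.card_lt_card ⟨fun z hz => ?_, fun hsub => ?_⟩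
      · obtain ⟨w, -, rfl⟩ := Finset.mem_image.1 hz
        by_cases hw : w = x
        · exact Finset.mem_image.2 ⟨y, Finset.mem_univ _, by rw [hne y (Ne.symm hxy), hw, hcxy]⟩
        · exact Finset.mem_image.2 ⟨w, Finset.mem_univ _, hne w hw⟩
      · obtain ⟨w, -, hw⟩ := Finset.mem_image.1 (hsub (Finset.mem_image.2 ⟨x, Finset.mem_univ _, hx⟩))
        exact hk w hw
    exact absurd (hmax ⟨c', hc'⟩) (not_le.2 hlt)
  let M : Subgroup (Equiv.Perm (Fin 5)) :=
    { carrier := {π | ∃ g : H, ∀ y, c (g • y) = π (c y)}
      one_mem' := ⟨1, fun y => by rw [one_smul]; rfl⟩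
      mul_mem' := by
        rintro π π' ⟨g, hg⟩ ⟨g', hg'⟩
        exact ⟨g * g', fun y => by rw [mul_smul, hg, hg']; rfl⟩
      inv_mem' := by
        rintro π ⟨g, hg⟩
        refine ⟨g⁻¹, fun y => ?_⟩
        apply π.injective
        rw [← hg, smul_inv_smul]
        exact (π.apply_symm_apply _).symm }
  let T : Subgroup H :=
    { carrier := {g | ∃ π : Equiv.Perm (Fin 5), ∀ y, c (g • y) = π (c y)}
      one_mem' := ⟨1, fun y => by rw [one_smul]; rfl⟩
      mul_mem' := by
        rintro g g' ⟨π, hπ⟩ ⟨π', hπ'⟩
        exact ⟨π * π', fun y => by rw [mul_smul, hπ, hπ']; rfl⟩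
      inv_mem' := by
        rintro g ⟨π, hπ⟩
        refine ⟨π⁻¹, fun y => ?_⟩
        apply π.injective
        rw [← hπ, smul_inv_smul]
        exact (π.apply_symm_apply _).symm }
  choose p hp using fun g : T => g.2
  have huniq : ∀ {g : H} {π π' : Equiv.Perm (Fin 5)}, (∀ y, c (g • y) = π (c y)) →
      (∀ y, c (g • y) = π' (c y)) → π = π' := by
    intro g π π' h h'
    refine Equiv.ext fun k => ?_
    obtain ⟨y, rfl⟩ := hsurj k
    rw [← h, h']
  let φ : T →* M := MonoidHom.mk' (fun g => ⟨p g, g, hp g⟩) fun g g' =>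
    Subtype.ext (huniq (hp (g * g')) fun y => by
      show c (((g : H) * (g' : H)) • y) = p g (p g' (c y))
      rw [mul_smul, hp, hp])
  haveI : Group.IsSolvable T := inferInstance
  haveI : Group.IsSolvable M := by
    refine Group.isSolvable_of_surjective (f := φ) ?_
    rintro ⟨π, g, hg⟩
    exact ⟨⟨g, π, hg⟩, Subtype.ext (huniq (hp _) hg)⟩
  obtain ⟨π, hπ⟩ := five_reps (Equiv.Perm.not_isSolvable (Fin 5) (by simp)) M
  refine ⟨fun i y => π i (c y), fun i g hg => hc g fun y => (π i).injective (hg y),
    fun i j ⟨g, hg⟩ => hπ i j ⟨g, fun y => ?_⟩⟩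
  have h : π i (c (g • y)) = π j (c y) := hg y
  rw [Equiv.Perm.mul_apply, ← h]
  exact ((π i).symm_apply_apply _).symm

/-- The five colour theorem below the inductive bound. -/
theorem exists_rigid {N : ℕ} (ih : HasTriple.{u} N) : ∀ (G : Type u) [Group G] [Finite G]
    (Ω : Type u) [MulAction G Ω] [Finite Ω], Group.IsSolvable G → Nat.card Ω < N →
      ∃ c, IsRigid G Ω c := by
  suffices h : ∀ n, ∀ (Ω : Type u) [Finite Ω] (G : Type u) [Group G] [Finite G] [MulAction G Ω],
      Nat.card Ω = n → Group.IsSolvable G → n < N → ∃ c, IsRigid G Ω c from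
    fun G _ _ Ω _ _ hs hn => h _ Ω G rfl hs hn
  intro n
  induction n using Nat.strong_induction_on with
  | _ n IH =>
    intro Ω _ G _ _ _ hn hs hN
    classical
    subst hn
    haveI := hs
    rcases subsingleton_or_nontrivial Ω with hΩ | hΩ
    · exact ⟨fun _ => 0, fun g _ x => Subsingleton.elim _ _⟩
    by_cases htr : IsPretransitive G Ω
    swap
    · obtain ⟨a, b, hab⟩ : ∃ a b : Ω, ∀ g : G, g • a ≠ b := by
        by_contra hno
        push Not at hno
        exact htr ⟨hno⟩
      let Δ : SubMulAction G Ω := ⟨orbit G a, fun g x hx => mapsTo_smul_orbit g a hx⟩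
      let Δ' : SubMulAction G Ω := ⟨(orbit G a)ᶜ, fun g x hx h => hx (by
        simpa using mapsTo_smul_orbit g⁻¹ a h)⟩
      have h1 : Nat.card Δ < Nat.card Ω := Finite.card_subtype_lt (x := b) fun h => by
        obtain ⟨g, hg⟩ := h; exact hab g hg
      have h2 : Nat.card Δ' < Nat.card Ω := Finite.card_subtype_lt (x := a)
        fun h => h (mem_orbit_self a)
      obtain ⟨c₁, hc₁⟩ := IH _ h1 Δ G rfl hs (h1.trans hN)
      obtain ⟨c₂, hc₂⟩ := IH _ h2 Δ' G rfl hs (h2.trans hN)
      refine ⟨fun x => if h : x ∈ orbit G a then c₁ ⟨x, h⟩ else c₂ ⟨x, h⟩, fun g hg x => ?_⟩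
      by_cases hx : x ∈ orbit G a
      · refine congrArg Subtype.val (hc₁ g (fun z => ?_) ⟨x, hx⟩)
        have h := hg z
        simp only [dif_pos (show (z : Ω) ∈ orbit G a from z.2),
          dif_pos (mapsTo_smul_orbit g a z.2)] at h
        exact h
      · refine congrArg Subtype.val (hc₂ g (fun z => ?_) ⟨x, hx⟩)
        have h := hg z
        simp only [dif_neg (show (z : Ω) ∉ orbit G a from z.2),
          dif_neg (show g • (z : Ω) ∉ orbit G a from (g • z : Δ').2)] at h
        exact h
    by_cases hpr : IsPreprimitive G Ω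
    swap
    · obtain ⟨B, hB, hBt⟩ : ∃ B : Set Ω, IsBlock G B ∧ ¬ IsTrivialBlock B := by
        by_contra hno
        push Not at hno
        exact hpr { isTrivialBlock_of_isBlock := fun {B} hB => hno B hB }
      simp only [IsTrivialBlock, not_or, Set.not_subsingleton_iff] at hBt
      obtain ⟨hBnt, hBu⟩ := hBt
      obtain ⟨b₀, hb₀⟩ := hBnt.nonempty
      let Ds := orbit G B
      have hblk : ∀ (y : Ω) (D E : Ds), y ∈ (D : Set Ω) → y ∈ (E : Set Ω) → D = E := by
        rintro y ⟨_, g, rfl⟩ ⟨_, g', rfl⟩ h h'
        refine Subtype.ext ?_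
        by_contra hne
        exact Set.disjoint_left.1 (hB (g₁ := g) (g₂ := g') hne) h h'
      have hex : ∀ x : Ω, ∃ D : Ds, x ∈ (D : Set Ω) := fun x => by
        obtain ⟨g, rfl⟩ := exists_smul_eq G b₀ x
        exact ⟨⟨g • B, mem_orbit B g⟩, Set.smul_mem_smul_set hb₀⟩
      choose blk hblkmem using hex
      have hlt : Nat.card Ds < Nat.card Ω := by
        obtain ⟨b₁, hb₁, b₂, hb₂, hne⟩ := hBnt
        haveI := Fintype.ofFinite Ω
        haveI := Fintype.ofFinite Ds
        rw [Nat.card_eq_fintype_card, Nat.card_eq_fintype_card]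
        refine Fintype.card_lt_of_surjective_not_injective blk (fun D => ?_) fun hinj => hne (hinj ?_)
        · obtain ⟨_, g, rfl⟩ := D
          exact ⟨g • b₀, hblk _ _ _ (hblkmem _) (Set.smul_mem_smul_set hb₀)⟩
        · exact (hblk b₁ _ ⟨B, mem_orbit_self B⟩ (hblkmem _) hb₁).trans
            (hblk b₂ _ ⟨B, mem_orbit_self B⟩ (hblkmem _) hb₂).symm
      obtain ⟨d, hd⟩ := IH _ hlt Ds G rfl hs (hlt.trans hN)
      let HB := stabilizer G B
      let Bs : SubMulAction HB Ω := ⟨B, fun g x hx => by
        have : (g : G) • x ∈ (g : G) • B := Set.smul_mem_smul_set hx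
        rwa [g.2] at this⟩
      have hBlt : Nat.card Bs < Nat.card Ω := by
        obtain ⟨z, hz⟩ := (Set.ne_univ_iff_exists_notMem _).1 hBu
        exact Finite.card_subtype_lt (x := z) hz
      haveI : Nontrivial Bs := by
        obtain ⟨b₁, hb₁, b₂, hb₂, hne⟩ := hBnt
        exact ⟨⟨b₁, hb₁⟩, ⟨b₂, hb₂⟩, fun e => hne (congrArg Subtype.val e)⟩
      have hsB : Group.IsSolvable HB := inferInstance
      obtain ⟨F, hF, hFne⟩ := five_colourings hsB (IH _ hBlt Bs HB rfl hsB (hBlt.trans hN))
      have ht : ∀ C : Ds, ∃ t : G, t • B = (C : Set Ω) := fun C => C.2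
      choose t ht using ht
      have hmem : ∀ x : Ω, (t (blk x))⁻¹ • x ∈ B := fun x => by
        rw [← Set.mem_smul_set_iff_inv_smul_mem, ht]
        exact hblkmem x
      refine ⟨fun x => F (d (blk x)) ⟨(t (blk x))⁻¹ • x, hmem x⟩, fun g hg => ?_⟩
      have hblk' : ∀ x, blk (g • x) = g • blk x := fun x =>
        hblk _ _ _ (hblkmem _) (Set.smul_mem_smul_set (hblkmem x))
      have hst : ∀ C : Ds, (t (g • C))⁻¹ * g * t C ∈ HB := fun C => by
        rw [mem_stabilizer_iff, mul_smul, mul_smul, ht C, inv_smul_eq_iff, ht (g • C)]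
        rfl
      have hcol : ∀ (C : Ds) (y : Bs),
          F (d (g • C)) ((⟨_, hst C⟩ : HB) • y) = F (d C) y := by
        intro C y
        have hyC : t C • (y : Ω) ∈ (C : Set Ω) := ht C ▸ Set.smul_mem_smul_set y.2
        have hb : blk (t C • (y : Ω)) = C := hblk _ _ _ (hblkmem _) hyC
        have key : ∀ (C₁ C₂ : Ds) (hC : C₁ = C₂) (z : Ω) (h₁ : (t C₁)⁻¹ • z ∈ B)
            (h₂ : (t C₂)⁻¹ • z ∈ B),
            F (d C₁) ⟨(t C₁)⁻¹ • z, h₁⟩ = F (d C₂) ⟨(t C₂)⁻¹ • z, h₂⟩ := by
          intro C₁ C₂ hC z h₁ h₂; subst hC; rfl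
        have h := hg (t C • (y : Ω))
        simp only at h
        rw [key _ (g • C) (by rw [hblk', hb]) _ _ (by
            rw [← Set.mem_smul_set_iff_inv_smul_mem, ht]; exact Set.smul_mem_smul_set hyC),
          key _ C hb _ _ (by rw [inv_smul_smul]; exact y.2)] at h
        convert h using 2
        · refine Subtype.ext ?_
          show ((t (g • C))⁻¹ * g * t C) • (y : Ω) = _
          rw [mul_smul, mul_smul]
        · exact Subtype.ext (inv_smul_smul (t C) (y : Ω)).symm
      have hall : ∀ C : Ds, g • C = C := hd g fun C => hFne _ _ ⟨⟨_, hst C⟩, hcol C⟩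
      intro x
      have h := congrArg Subtype.val (hF (d (blk x)) ⟨_, hst (blk x)⟩ (fun y => by
        have := hcol (blk x) y
        rwa [congrArg d (hall (blk x))] at this) ⟨_, hmem x⟩)
      change ((t (g • blk x))⁻¹ * g * t (blk x)) • (t (blk x))⁻¹ • x = _ at h
      rw [mul_smul, mul_smul, smul_inv_smul, hall] at h
      exact MulAction.injective _ h
    -- the primitive case
    let φ := MulAction.toPermHom G Ω
    suffices h : ∃ c, IsRigid φ.range Ω c by
      obtain ⟨c, hc⟩ := h
      exact ⟨c, fun g hg x => hc (φ.rangeRestrict g) hg x⟩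
    haveI : IsPreprimitive φ.range Ω := IsPreprimitive.of_surjective (φ := φ.rangeRestrict)
      (f := ({ toFun := id, map_smul' := fun _ _ => rfl } : Ω →ₑ[φ.rangeRestrict] Ω))
      Function.surjective_id
    haveI : FaithfulSMul φ.range Ω := ⟨fun h => Subtype.ext (Equiv.ext h)⟩
    haveI hsR : Group.IsSolvable φ.range := Group.isSolvable_of_surjective φ.rangeRestrict_surjective
    revert hsR
    generalize φ.range = P at *
    intro hsR
    haveI : Nontrivial P := by
      by_contra hne
      rw [not_nontrivial_iff_subsingleton] at hne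
      obtain ⟨a, b, hab⟩ := exists_pair_ne Ω
      obtain ⟨g, hg⟩ := MulAction.exists_smul_eq P a b
      exact hab (by rw [← hg, Subsingleton.elim g 1, one_smul])
    obtain ⟨N₀, p, hN₀n, hN₀ne, -, hN₀c, -⟩ := exists_normal_elementary (G := P)
    obtain ⟨M, ⟨hMn, hMne, hMc⟩, hMmin⟩ := (Set.toFinite
      {M : Subgroup P | M.Normal ∧ M ≠ ⊥ ∧ ∀ a ∈ M, ∀ b ∈ M, a * b = b * a}).exists_minimal
      ⟨N₀, hN₀n, hN₀ne, hN₀c⟩
    haveI := hMn
    have htrans : ∀ (L : Subgroup P), L.Normal → L ≠ ⊥ → IsPretransitive L Ω := by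
      intro L hLn hL
      haveI := hLn
      refine IsQuasiPreprimitive.isPretransitive_of_normal (fun hfix => hL ?_)
      refine (Subgroup.eq_bot_iff_forall L).2 fun x hx => eq_of_smul_eq_smul (α := Ω) fun a => ?_
      have ha : a ∈ fixedPoints L Ω := hfix ▸ Set.mem_univ a
      rw [one_smul]
      exact ha ⟨x, hx⟩
    haveI := htrans M hMn hMne
    have ω : Ω := Classical.arbitrary Ω
    letI : CommGroup M := { (inferInstance : Group M) with
      mul_comm := fun a b => Subtype.ext (hMc a a.2 b b.2) }
    have hfree : ∀ x : M, x • ω = ω → x = 1 := by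
      intro x hx
      refine Subtype.ext (eq_of_smul_eq_smul (α := Ω) fun a => ?_)
      obtain ⟨y, rfl⟩ := MulAction.exists_smul_eq M ω a
      rw [OneMemClass.coe_one, one_smul]
      show x • y • ω = y • ω
      rw [← mul_smul, mul_comm, mul_smul, hx]
    have hinj : Function.Injective fun x : M => x • ω := fun x y h => by
      have h' : x • ω = y • ω := h
      exact (inv_mul_eq_one.1 (hfree (y⁻¹ * x) (by rw [mul_smul, h', inv_smul_smul]))).symm
    let St := stabilizer P ω
    let cj : St → Additive M → Additive M := fun h x => Additive.ofMul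
      ⟨(h : P) * (Additive.toMul x : M) * (h : P)⁻¹, hMn.conj_mem _ (Additive.toMul x).2 h⟩
    have hcj : ∀ (h : St) (x : Additive M), ((Additive.toMul (cj h x) : M) : P) =
        (h : P) * (Additive.toMul x : M) * (h : P)⁻¹ := fun _ _ => rfl
    have cjext : ∀ {x y : Additive M}, ((Additive.toMul x : M) : P) = (Additive.toMul y : M) → x = y :=
      fun {x y} h => Additive.toMul.injective (Subtype.ext h)
    letI : DistribMulAction St (Additive M) :=
      { smul := cj
        one_smul := fun x => cjext (by
          show ((Additive.toMul (cj 1 x) : M) : P) = _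
          rw [hcj, OneMemClass.coe_one, one_mul, inv_one, mul_one])
        mul_smul := fun a b x => cjext (by
          show ((Additive.toMul (cj (a * b) x) : M) : P) = (Additive.toMul (cj a (cj b x)) : M)
          rw [hcj, hcj, hcj, Subgroup.coe_mul]
          group)
        smul_zero := fun a => cjext (by
          show ((Additive.toMul (cj a 0) : M) : P) = _
          rw [hcj, toMul_zero, OneMemClass.coe_one, mul_one, mul_inv_cancel])
        smul_add := fun a x y => cjext (by
          show ((Additive.toMul (cj a (x + y)) : M) : P) = (Additive.toMul (cj a x + cj a y) : M)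
          rw [hcj, toMul_add, toMul_add, Subgroup.coe_mul, Subgroup.coe_mul, hcj, hcj]
          group) }
    have hsm : ∀ (h : St) (x : M), ((Additive.toMul (h • Additive.ofMul x) : M) : P) =
        (h : P) * x * (h : P)⁻¹ := fun _ _ => rfl
    have hirr : ∀ T : AddSubgroup (Additive M), Inv St (Additive M) T → T = ⊥ ∨ T = ⊤ := by
      intro T hT
      by_cases hT0 : T = ⊥
      · exact Or.inl hT0
      refine Or.inr (eq_top_iff.2 fun z _ => ?_)
      let L : Subgroup P := (AddSubgroup.toSubgroup' T).map M.subtype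
      have hLM : L ≤ M := Subgroup.map_subtype_le _
      have hLn : L.Normal := by
        refine ⟨?_⟩
        rintro _ ⟨x, hx, rfl⟩ g
        obtain ⟨m, hm⟩ := MulAction.exists_smul_eq M ω (g • ω)
        have hst : (m : P)⁻¹ * g ∈ St := by
          rw [mem_stabilizer_iff, mul_smul, ← hm]; exact inv_smul_smul (m : P) ω
        refine ⟨_, hT ⟨_, hst⟩ (Additive.ofMul x) hx, ?_⟩
        show (m : P)⁻¹ * g * x * ((m : P)⁻¹ * g)⁻¹ = g * x * g⁻¹
        have hc := hMc _ (hMn.conj_mem x x.2 g) m m.2
        calc (m : P)⁻¹ * g * x * ((m : P)⁻¹ * g)⁻¹ = (m : P)⁻¹ * ((g * x * g⁻¹) * m) := by group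
          _ = g * x * g⁻¹ := by rw [hc, inv_mul_cancel_left]
      have hLne : L ≠ ⊥ := fun h => hT0 ((AddSubgroup.eq_bot_iff_forall _).2 fun y hy => by
        have : ((Additive.toMul y : M) : P) ∈ L := ⟨_, hy, rfl⟩
        rw [h, Subgroup.mem_bot] at this
        exact Subtype.ext this)
      have hML : M ≤ L := hMmin ⟨hLn, hLne, fun a ha b hb => hMc a (hLM ha) b (hLM hb)⟩ hLM
      obtain ⟨w, hw, hwe⟩ := hML (Additive.toMul z).2
      rw [show z = Additive.ofMul w from (Subtype.ext hwe).symm]
      exact hw
    have hcard : Nat.card (Additive M) < N := by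
      refine lt_of_le_of_lt ?_ hN
      exact Nat.card_le_card_of_injective (fun x : Additive M => Additive.toMul x • ω)
        fun x y h => hinj h
    obtain ⟨a, b, c, habc⟩ := ih St (Additive M) hcard inferInstance (fun T hT => by
      rcases hirr T hT with rfl | rfl
      · exact ⟨⊤, fun _ _ _ => AddSubgroup.mem_top _, bot_inf_eq _, bot_sup_eq _⟩
      · exact ⟨⊥, fun g x hx => by rw [AddSubgroup.mem_bot] at hx ⊢; rw [hx, smul_zero],
          inf_bot_eq _, top_sup_eq _⟩)
    let pt : Additive M → Ω := fun x => Additive.toMul x • ω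
    let col : Ω → Fin 5 := fun z => if z = ω then 0 else if z = pt a then 1 else if z = pt b then 2
      else if z = pt c then 3 else 4
    have hd : ∀ w, (col w = 0 → w = ω) ∧ (col w = 1 → w = pt a) ∧ (col w = 2 → w = pt b) ∧
        (col w = 3 → w = pt c) := by
      intro w
      simp only [col]
      split_ifs with h0 h1 h2 h3
      all_goals
        refine ⟨?_, ?_, ?_, ?_⟩
      all_goals
        intro he
        first
          | assumption
          | exact absurd he (by decide)
    refine ⟨col, fun g hg => ?_⟩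
    have key : ∀ z ∈ ({ω, pt a, pt b, pt c} : Set Ω), g • z = z := by
      intro z hz
      have h := hg z
      obtain ⟨d0, d1, d2, d3⟩ := hd (g • z)
      by_cases f0 : z = ω
      · have e : col z = 0 := if_pos f0
        rw [d0 (h.trans e), f0]
      by_cases f1 : z = pt a
      · have e : col z = 1 := (if_neg f0).trans (if_pos f1)
        rw [d1 (h.trans e), f1]
      by_cases f2 : z = pt b
      · have e : col z = 2 := (if_neg f0).trans ((if_neg f1).trans (if_pos f2))
        rw [d2 (h.trans e), f2]
      have f3 : z = pt c := by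
        simp only [Set.mem_insert_iff, Set.mem_singleton_iff] at hz
        tauto
      have e : col z = 3 := (if_neg f0).trans ((if_neg f1).trans ((if_neg f2).trans (if_pos f3)))
      rw [d3 (h.trans e), f3]
    have hgω : g ∈ St := key ω (by simp)
    have hfix : ∀ x : Additive M, g • pt x = pt x → (⟨g, hgω⟩ : St) • x = x := by
      intro x hx
      refine hinj ?_
      show (g * ((Additive.toMul x : M) : P) * g⁻¹) • ω = _
      rw [mul_smul, mul_smul, show g⁻¹ • ω = ω from inv_smul_eq_iff.2 hgω.symm]
      exact hx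
    have hall := habc _ (hfix a (key _ (by simp))) (hfix b (key _ (by simp)))
      (hfix c (key _ (by simp)))
    intro z
    obtain ⟨y, rfl⟩ := MulAction.exists_smul_eq M ω z
    have h := congrArg (fun x : Additive M => ((Additive.toMul x : M) : P)) (hall (Additive.ofMul y))
    simp only [hsm] at h
    show g • (y : P) • ω = (y : P) • ω
    rw [← mul_smul, show g * (y : P) = (y : P) * g from mul_inv_eq_iff_eq_mul.1 h, mul_smul, hgω]

end Cfsg.Agent.H67.Base3
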